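import Cfsg.Agent.Lib.HeUniq.Rel.Part0
import Cfsg.Agent.Lib.HeUniq.Rel.Part1
import Cfsg.Agent.Lib.HeUniq.Rel.Part2
import Cfsg.Agent.Lib.HeUniq.Rel.Part3
import Cfsg.Agent.Lib.RigidGraph.He.Presented

/-!
The amalgam inside a simple group of the order of the Held group gives the presented Held group: seven words
satisfy the relators.
-/

set_option autoImplicit false
set_option maxRecDepth 100000

namespace Cfsg.Agent.HeUniq.Rel

open Cfsg.Agent.HeUniq.Model Cfsg.Agent.HeUniq.Local
open Cfsg.Agent.CosetCert (wprod wprod_cons wprod_nil wprod_rep wprod_append wprod_reverse pairsOK extraOK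
  pairWord eq_of_wordEq coxLabel_self)

theorem mC_one : mC oneC oneC = oneC := by decide +kernel

theorem mM_one : mM oneM oneM = oneM := by decide +kernel

attribute [local irreducible] cd md mC mM theta pC pM

variable {G : Type*} [Group G] (A : Local.Amalgam G)

/-- the value of a syllable -/
def val (s : ℕ) : G :=
  match tag s with
  | 0 => A.fC (code s)
  | 1 => A.f0 (code s)
  | _ => A.f1 (code s)

/-- the value of a word -/
def wv (w : List ℕ) : G := (w.map (val A)).prod

theorem tag_cases (a : ℕ) : tag a = 0 ∨ tag a = 1 ∨ tag a = 2 := by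
  unfold tag; omega

theorem val_zero {a : ℕ} (h : tag a = 0) : val A a = A.fC (code a) := by
  simp [val, h]

theorem val_one' {a : ℕ} (h : tag a = 1) : val A a = A.f0 (code a) := by
  simp [val, h]

theorem val_two {a : ℕ} (h : tag a = 2) : val A a = A.f1 (code a) := by
  simp [val, h]

theorem code_zero {a : ℕ} (h : tag a = 0) (ha : sylOK a = true) : ∃ i < 21504, code a = cd i := by
  refine ⟨num a, ?_, by simp [code, h]⟩
  simpa [sylOK, h, Nat.blt_eq] using ha

theorem code_M {a : ℕ} (h : tag a ≠ 0) (ha : sylOK a = true) : InM (code a) := by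
  have hb : Nat.beq (tag a) 0 = false := by
    rw [← Bool.not_eq_true, Nat.beq_eq]; exact h
  simp only [sylOK, hb, cond_false, Nat.blt_eq] at ha
  exact ⟨num a, ha, by simp [code, hb]⟩

theorem mulOK_val {a b c : ℕ} (ha : sylOK a = true) (hb : sylOK b = true) (h : mulOK a b c = true) :
    val A a * val A b = val A c := by
  simp only [mulOK, Bool.and_eq_true, Nat.beq_eq] at h
  obtain ⟨⟨hab, hac⟩, h⟩ := h
  rcases tag_cases a with t | t | t
  · have e : mC (code a) (code b) = code c := by simpa [t] using h
    obtain ⟨i, hi, ei⟩ := code_zero t ha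
    obtain ⟨j, hj, ej⟩ := code_zero (hab ▸ t) hb
    rw [val_zero A t, val_zero A (hab ▸ t), val_zero A (hac ▸ t), ← e, ei, ej, A.mulC i hi j hj]
  · have e : mM (code a) (code b) = code c := by simpa [t] using h
    rw [val_one' A t, val_one' A (hab ▸ t), val_one' A (hac ▸ t), ← e,
      A.mul0 _ _ (code_M (by omega) ha) (code_M (by omega) hb)]
  · have e : mM (code a) (code b) = code c := by simpa [t] using h
    rw [val_two A t, val_two A (hab ▸ t), val_two A (hac ▸ t), ← e,
      A.mul1 _ _ (code_M (by omega) ha) (code_M (by omega) hb)]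

theorem oneOK_val {a : ℕ} (ha : sylOK a = true) (h : oneOK a = true) : val A a = 1 := by
  rcases tag_cases a with t | t | t
  · have e : code a = oneC := by simpa [oneOK, t] using h
    obtain ⟨i, hi, ei⟩ := code_zero t ha
    rw [val_zero A t, e]
    rw [e] at ei
    have hm := A.mulC i hi i hi
    rw [← ei, mC_one] at hm
    exact mul_eq_left.1 hm.symm
  · have e : code a = oneM := by simpa [oneOK, t] using h
    have hM := code_M (by omega) ha
    rw [val_one' A t, e]
    rw [e] at hM
    have hm := A.mul0 _ _ hM hM
    rw [mM_one] at hm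
    exact mul_eq_left.1 hm.symm
  · have e : code a = oneM := by simpa [oneOK, t] using h
    have hM := code_M (by omega) ha
    rw [val_two A t, e]
    rw [e] at hM
    have hm := A.mul1 _ _ hM hM
    rw [mM_one] at hm
    exact mul_eq_left.1 hm.symm

theorem convOK_val {a b j : ℕ} (h : convOK a b j = true) : val A a = val A b := by
  simp only [convOK, Bool.and_eq_true, Nat.beq_eq, Nat.blt_eq, Bool.not_eq_true', ← Bool.not_eq_true] at h
  obtain ⟨⟨⟨⟨hb, ha⟩, hj⟩, e1⟩, e2⟩ := h
  rw [val_zero A hb]
  rcases tag_cases a with t | t | t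
  · exact absurd t ha
  · rw [val_one' A t, e1, A.pair0 j hj]
    simp [t] at e2
    rw [e2]
  · rw [val_two A t, e1, A.pair1 j hj]
    rw [t, show Nat.beq 2 1 = false from rfl, cond_false] at e2
    rw [e2]

theorem glueOK_val {a b : ℕ} (h : glueOK a b = true) : val A a = val A b := by
  simp only [glueOK, Bool.and_eq_true, Nat.beq_eq] at h
  rw [val_one' A h.1.1.1, val_two A h.1.1.2, h.1.2, h.2, A.glue]

theorem sameOK_val : ∀ (u v : List ℕ) (j : ℕ), (∀ a ∈ u, sylOK a = true) → (∀ a ∈ v, sylOK a = true) →
    sameOK u v j = true → wv A u = wv A v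
  | [a], [b], j, _, _, h => by
    simp only [sameOK, Bool.or_eq_true] at h
    simp only [wv, List.map_cons, List.map_nil, List.prod_singleton]
    rcases h with ((h | h) | h) | h
    · exact convOK_val A h
    · exact (convOK_val A h).symm
    · exact glueOK_val A h
    · exact (glueOK_val A h).symm
  | [a, b], [c], _, hu, _, h => by
    simpa [wv] using mulOK_val A (hu a (by simp)) (hu b (by simp)) h
  | [c], [a, b], _, _, hv, h => by
    simpa [wv] using (mulOK_val A (hv a (by simp)) (hv b (by simp)) h).symm
  | [a], [], _, hu, _, h => by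
    simpa [wv] using oneOK_val A (hu a (by simp)) h
  | [], [a], _, _, hv, h => by
    simpa [wv] using (oneOK_val A (hv a (by simp)) h).symm
  | [], [], _, _, _, _ => rfl
  | [], _ :: _ :: _, _, _, _, h => by simp [sameOK] at h
  | [_], _ :: _ :: _ :: _, _, _, _, h => by simp [sameOK] at h
  | [_, _], [], _, _, _, h => by simp [sameOK] at h
  | [_, _], _ :: _ :: _, _, _, _, h => by simp [sameOK] at h
  | _ :: _ :: _ :: _, _, _, _, _, h => by simp [sameOK] at h

theorem wv_append (u v : List ℕ) : wv A (u ++ v) = wv A u * wv A v := by simp [wv]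

theorem stepW_val {w w' st : List ℕ} (hw : ∀ a ∈ w, sylOK a = true) (h : stepW w st = some w') :
    wv A w' = wv A w ∧ ∀ a ∈ w', sylOK a = true := by
  match st, h with
  | [], h => simp [stepW] at h
  | [_], h => simp [stepW] at h
  | [_, _], h => simp [stepW] at h
  | i :: l :: j :: new, h =>
    simp only [stepW] at h
    cases hc : (new.all sylOK && sameOK ((w.drop i).take l) new j) with
    | false => simp [hc] at h
    | true =>
      simp only [hc, cond_true, Option.some.injEq] at h
      simp only [Bool.and_eq_true, List.all_eq_true] at hc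
      subst h
      have hmid : ∀ a ∈ (w.drop i).take l, sylOK a = true := fun a ha =>
        hw a (List.mem_of_mem_drop (List.mem_of_mem_take ha))
      refine ⟨?_, fun a ha => ?_⟩
      · have e := sameOK_val A _ _ _ hmid hc.1 hc.2
        conv_rhs => rw [← List.take_append_drop i w, ← List.take_append_drop l (w.drop i)]
        simp only [wv_append, e]
      · rcases List.mem_append.1 ha with ha | ha
        · exact hw a (List.mem_of_mem_take ha)
        rcases List.mem_append.1 ha with ha | ha
        · exact hc.1 a ha
        · exact hw a (List.mem_of_mem_drop (List.mem_of_mem_drop ha))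

theorem runW_val : ∀ (steps : List (List ℕ)) (w : List ℕ), (∀ a ∈ w, sylOK a = true) → runW w steps = true →
    wv A w = 1
  | [], w, hw, h => by
    simp only [runW, List.all_eq_true] at h
    refine List.prod_eq_one fun x hx => ?_
    obtain ⟨a, ha, rfl⟩ := List.mem_map.1 hx
    exact oneOK_val A (hw a ha) (h a ha)
  | st :: rest, w, hw, h => by
    simp only [runW] at h
    cases hs : stepW w st with
    | none => simp [hs] at h
    | some w' =>
      simp only [hs] at h
      obtain ⟨e, hw'⟩ := stepW_val A hw hs
      rw [← e, runW_val rest w' hw' h]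

/-- the value of a generator -/
def gval (x : ℕ) : G := wv A (genW.getD x [])

theorem wprod_gval (r : List ℕ) : wprod (gval A) r = wv A (relWord r) := by
  induction r with
  | nil => rfl
  | cons x r ih =>
    rw [wprod_cons, ih, relWord, relWord, List.map_cons, List.flatten_cons, wv_append]
    rfl

theorem cert_one {r : List ℕ} {rot : ℕ} {steps : List (List ℕ)} (h : certOK r rot steps = true) :
    wprod (gval A) r = 1 := by
  simp only [certOK, Bool.and_eq_true, List.all_eq_true] at h
  rw [wprod_gval]
  have hrun := runW_val A steps _ (fun a ha => by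
    rcases List.mem_append.1 ha with ha | ha
    exacts [h.1 a (List.mem_of_mem_drop ha), h.1 a (List.mem_of_mem_take ha)]) h.2
  rw [wv_append] at hrun
  have e := (List.take_append_drop rot (relWord r)).symm
  rw [e, wv_append]
  exact mul_eq_one_comm.1 hrun

theorem base_one : ∀ w ∈ Cfsg.Agent.CosetData.HeH.base, wprod (gval A) w = 1 := by
  intro w hw
  rw [Cfsg.Agent.CosetData.HeH.base] at hw
  rcases List.mem_cons.1 hw with rfl | hw
  · exact cert_one A cert0
  rcases List.mem_cons.1 hw with rfl | hw
  · exact cert_one A cert1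
  rcases List.mem_cons.1 hw with rfl | hw
  · exact cert_one A cert2
  rcases List.mem_cons.1 hw with rfl | hw
  · exact cert_one A cert3
  rcases List.mem_cons.1 hw with rfl | hw
  · exact cert_one A cert4
  rcases List.mem_cons.1 hw with rfl | hw
  · exact cert_one A cert5
  rcases List.mem_cons.1 hw with rfl | hw
  · exact cert_one A cert6
  rcases List.mem_cons.1 hw with rfl | hw
  · exact cert_one A cert7
  rcases List.mem_cons.1 hw with rfl | hw
  · exact cert_one A cert8
  rcases List.mem_cons.1 hw with rfl | hw
  · exact cert_one A cert9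
  rcases List.mem_cons.1 hw with rfl | hw
  · exact cert_one A cert10
  rcases List.mem_cons.1 hw with rfl | hw
  · exact cert_one A cert11
  rcases List.mem_cons.1 hw with rfl | hw
  · exact cert_one A cert12
  rcases List.mem_cons.1 hw with rfl | hw
  · exact cert_one A cert13
  rcases List.mem_cons.1 hw with rfl | hw
  · exact cert_one A cert14
  rcases List.mem_cons.1 hw with rfl | hw
  · exact cert_one A cert15
  rcases List.mem_cons.1 hw with rfl | hw
  · exact cert_one A cert16
  rcases List.mem_cons.1 hw with rfl | hw
  · exact cert_one A cert17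
  rcases List.mem_cons.1 hw with rfl | hw
  · exact cert_one A cert18
  rcases List.mem_cons.1 hw with rfl | hw
  · exact cert_one A cert19
  rcases List.mem_cons.1 hw with rfl | hw
  · exact cert_one A cert20
  rcases List.mem_cons.1 hw with rfl | hw
  · exact cert_one A cert21
  rcases List.mem_cons.1 hw with rfl | hw
  · exact cert_one A cert22
  rcases List.mem_cons.1 hw with rfl | hw
  · exact cert_one A cert23
  rcases List.mem_cons.1 hw with rfl | hw
  · exact cert_one A cert24
  exact absurd hw List.not_mem_nil

theorem gval_invol : ∀ x < 7, gval A x * gval A x = 1 := by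
  intro x hx
  have key : wprod (gval A) [x, x] = 1 := match x, hx with
    | 0, _ => cert_one A cert25
    | 1, _ => cert_one A cert26
    | 2, _ => cert_one A cert27
    | 3, _ => cert_one A cert28
    | 4, _ => cert_one A cert29
    | 5, _ => cert_one A cert30
    | 6, _ => cert_one A cert31
    | _ + 7, hx => absurd hx (by omega)
  simpa [wprod_cons, wprod_nil] using key

theorem gen_code : (genW.getD 0 []).map code = [code 29517] ∧ tag 29517 = 0 ∧ sylOK 29517 = true ∧
    sylOK 29184 = true ∧ tag 29184 = 0 ∧ oneOK 29184 = true ∧ Nat.beq (code 29517) (code 29184) = false := by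
  decide +kernel

theorem gval_ne : gval A 0 ≠ 1 := by
  intro h
  obtain ⟨-, ht, hok, hok1, ht1, h1, hne⟩ := gen_code
  have e : gval A 0 = A.fC (code 29517) := by
    have e0 : genW.getD 0 [] = [29517] := rfl
    rw [gval, e0, wv, List.map_singleton, List.prod_singleton, val_zero A ht]
  obtain ⟨i, hi, ei⟩ := code_zero ht hok
  obtain ⟨k, hk, ek⟩ := code_zero ht1 hok1
  have h2 := oneOK_val A hok1 h1
  rw [val_zero A ht1] at h2
  have := A.injC i hi k hk (by rw [← ei, ← ek, ← e, h, h2])
  rw [← ei, ← ek] at this
  rw [this] at hne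
  exact Bool.eq_false_iff.1 hne (Nat.beq_eq ▸ rfl)

/-- The amalgam in a simple group of order `4030387200` gives the presented Held group. -/
theorem amalgam_isoHe [Finite G] [IsSimpleGroup G] (A : Local.Amalgam G) (hcard : Nat.card G = 4030387200) :
    Cfsg.Spor.IsoHe G := by
  classical
  set S := Cfsg.Agent.CosetData.HeH.setup
  let f : Cfsg.Spor.He.Gen → G := fun a => gval A (Cfsg.Agent.CosetData.HeH.ix a)
  have hlt : ∀ a, Cfsg.Agent.CosetData.HeH.ix a < 7 := fun a => by cases a <;> decide
  have hinv : ∀ a, f a * f a = 1 := fun a => gval_invol A _ (hlt a)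
  have hgi : ∀ x < 7, f (Cfsg.Agent.CosetData.HeH.gi x) = gval A x := fun x hx => by
    interval_cases x <;> rfl
  have hrels : ∀ r ∈ Cfsg.Spor.coxRelators Cfsg.Spor.He.edges ∪ {r | r ∈ Cfsg.Spor.He.extra},
      FreeGroup.lift f r = 1 := by
    rintro r (⟨a, -, b, -, rfl⟩ | hr)
    · rw [map_pow, map_mul, FreeGroup.lift_apply_of, FreeGroup.lift_apply_of]
      by_cases hab : a = b
      · subst hab; rw [coxLabel_self, pow_one]; exact hinv a
      have h := S.pairs
      simp only [pairsOK, List.all_eq_true, Bool.and_eq_true, Bool.or_eq_true, Nat.beq_eq,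
        List.any_eq_true, List.mem_range] at h
      rcases (h _ (S.ix_lt a)).2 _ (S.ix_lt b) with h1 | ⟨w, hw, he⟩
      · exact absurd (by rw [← S.gi_ix a, h1, S.gi_ix]) hab
      have hrev : ∀ w : List ℕ, (∀ x ∈ w, x < 7) → wprod (gval A) w.reverse = (wprod (gval A) w)⁻¹ := by
        intro w
        induction w with
        | nil => intro _; simp [wprod_nil]
        | cons x w ih =>
          intro hw
          rw [List.reverse_cons, wprod_append, ih fun y hy => hw y (List.mem_cons_of_mem _ hy), wprod_cons,
            wprod_cons, wprod_nil, mul_one, mul_inv_rev,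
            inv_eq_of_mul_eq_one_right (gval_invol A x (hw x List.mem_cons_self))]
      have h2 : wprod (gval A) (pairWord S.edges S.gi (S.ix a) (S.ix b)) = 1 := by
        have hw1 := base_one A w hw
        rcases he with he | he <;> rw [eq_of_wordEq he]
        · exact hw1
        · rw [hrev w ?_, hw1, inv_one]
          have hb : (Cfsg.Agent.CosetData.HeH.base.all fun u => u.all fun x => Nat.blt x 7) = true := by
            decide +kernel
          intro x hx
          exact Nat.blt_eq ▸ List.all_eq_true.1 (List.all_eq_true.1 hb w hw) x hx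
      rw [pairWord, S.gi_ix, S.gi_ix, wprod_rep, wprod_cons, wprod_cons, wprod_nil, mul_one] at h2
      exact h2
    · have hf : ∀ (w : List ℕ), (∀ x ∈ w, x < 7) →
          wprod (fun x => f (Cfsg.Agent.CosetData.HeH.gi x)) w = wprod (gval A) w := fun w hw => by
        simp only [wprod]
        exact congrArg List.prod (List.map_congr_left fun x hx => hgi x (hw x hx))
      have hi : ∀ a, (f a)⁻¹ = f a := fun a => inv_eq_of_mul_eq_one_right (hinv a)
      have key : List.Forall₂ (fun r w => FreeGroup.lift f r = wprod (fun x => f (Cfsg.Agent.CosetData.HeH.gi x)) w)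
          Cfsg.Spor.He.extra Cfsg.Agent.CosetData.HeH.extraW := by
        simp only [Cfsg.Spor.He.extra, Cfsg.Agent.CosetData.HeH.extraW]
        repeat' constructor
        all_goals
          simp [wprod_cons, wprod_rep, wprod_nil, Cfsg.Agent.CosetData.HeH.gi, hi, map_mul, map_pow, map_inv,
            mul_inv_rev, ← inv_pow, mul_assoc]
      obtain ⟨t, ht, rfl⟩ := List.getElem_of_mem hr
      have ht' : t < Cfsg.Agent.CosetData.HeH.extraW.length := key.length_eq ▸ ht
      have h1 := List.Forall₂.get key ht ht'
      simp only [List.get_eq_getElem] at h1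
      have h := S.extras
      simp only [extraOK, List.all_eq_true, List.any_eq_true] at h
      obtain ⟨w, hw, he⟩ := h _ (List.getElem_mem ht')
      have hb : (Cfsg.Agent.CosetData.HeH.extraW.all fun u => u.all fun x => Nat.blt x 7) = true := by
        decide +kernel
      rw [h1, hf _ fun x hx => Nat.blt_eq ▸ List.all_eq_true.1 (List.all_eq_true.1 hb _ (List.getElem_mem ht')) x hx,
        eq_of_wordEq he]
      exact base_one A w hw
  let φ : Cfsg.Spor.He →* G := PresentedGroup.toGroup hrels
  haveI hs : IsSimpleGroup Cfsg.Spor.He :=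
    haveI := Cfsg.Agent.RigidGraph.He.isHe_heGroup.1
    Cfsg.Agent.RigidGraph.He.presentedEquiv.isSimpleGroup
  have hinj : Function.Injective φ := by
    rw [← MonoidHom.ker_eq_bot_iff]
    refine ((inferInstance : φ.ker.Normal).eq_bot_or_eq_top).resolve_right fun h => ?_
    refine gval_ne A ?_
    have h1 : φ (PresentedGroup.of Cfsg.Spor.He.Gen.a) = 1 := MonoidHom.mem_ker.1 (h ▸ Subgroup.mem_top _)
    rw [show φ (PresentedGroup.of Cfsg.Spor.He.Gen.a) = f Cfsg.Spor.He.Gen.a from
      PresentedGroup.toGroup.of hrels] at h1
    exact h1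
  haveI : Finite Cfsg.Spor.He := Finite.of_injective φ hinj
  have hc : Nat.card Cfsg.Spor.He = Nat.card G := by
    rw [hcard, Nat.card_congr Cfsg.Agent.RigidGraph.He.presentedEquiv.toEquiv,
      Cfsg.Agent.RigidGraph.He.card_heGroup]
  exact ⟨(MulEquiv.ofBijective φ ((Nat.bijective_iff_injective_and_card _).2 ⟨hinj, hc⟩)).symm⟩

end Cfsg.Agent.HeUniq.Rel
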