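import Cfsg.Agent.Lib.HeUniq.Local.Amalgam

/-!
Words in the three groups of the amalgam, and derivations: a step replaces a segment of a word by one of
equal value inside one of the groups or through an identification.
-/

set_option autoImplicit false

namespace Cfsg.Agent.HeUniq.Rel

open Cfsg.Agent.HeUniq.Model Cfsg.Agent.HeUniq.Local

/-- the group of a syllable -/
def tag (s : ℕ) : ℕ := s % 3

/-- the number of a syllable in its group -/
def num (s : ℕ) : ℕ := s / 3

/-- the element code of a syllable -/
def code (s : ℕ) : ℕ := bif Nat.beq (tag s) 0 then cd (num s) else md (num s)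

/-- a syllable is valid -/
def sylOK (s : ℕ) : Bool := bif Nat.beq (tag s) 0 then Nat.blt (num s) 21504 else Nat.blt (num s) 138240

/-- the product of two syllables of one group is a third -/
def mulOK (a b c : ℕ) : Bool :=
  Nat.beq (tag a) (tag b) && Nat.beq (tag a) (tag c) &&
    bif Nat.beq (tag a) 0 then Nat.beq (mC (code a) (code b)) (code c)
    else Nat.beq (mM (code a) (code b)) (code c)

/-- a normaliser syllable is identified with a centraliser syllable -/
def convOK (a b j : ℕ) : Bool :=
  Nat.beq (tag b) 0 && !Nat.beq (tag a) 0 && Nat.blt j 3072 && Nat.beq (code a) (pM j) &&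
    Nat.beq (code b) (bif Nat.beq (tag a) 1 then pC j else theta (pC j))

/-- the glued element -/
def glueOK (a b : ℕ) : Bool :=
  Nat.beq (tag a) 1 && Nat.beq (tag b) 2 && Nat.beq (code a) s0 && Nat.beq (code b) s0

/-- an identity syllable -/
def oneOK (a : ℕ) : Bool := bif Nat.beq (tag a) 0 then Nat.beq (code a) oneC else Nat.beq (code a) oneM

/-- two segments of equal value -/
def sameOK : List ℕ → List ℕ → ℕ → Bool
  | [a], [b], j => convOK a b j || convOK b a j || glueOK a b || glueOK b a
  | [a, b], [c], _ => mulOK a b c
  | [c], [a, b], _ => mulOK a b c
  | [a], [], _ => oneOK a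
  | [], [a], _ => oneOK a
  | _, _, _ => false

/-- one step -/
def stepW (w : List ℕ) : List ℕ → Option (List ℕ)
  | i :: l :: j :: new =>
    bif new.all sylOK && sameOK ((w.drop i).take l) new j then some (w.take i ++ (new ++ (w.drop i).drop l))
    else none
  | _ => none

/-- the steps end in identity syllables -/
def runW : List ℕ → List (List ℕ) → Bool
  | w, [] => w.all oneOK
  | w, st :: rest =>
    match stepW w st with
    | some w' => runW w' rest
    | none => false

/-- the seven generators as words -/
def genW : List (List ℕ) := [
  [29517],
  [33225],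
  [8661],
  [37638, 206215, 28836, 260045, 35859, 260044, 28836],
  [29376],
  [29199],
  [29256]]

/-- the word of a relator -/
def relWord (r : List ℕ) : List ℕ := (r.map fun x => genW.getD x []).flatten

/-- a derivation of a relator, from a rotation of its word -/
def certOK (r : List ℕ) (rot : ℕ) (steps : List (List ℕ)) : Bool :=
  (relWord r).all sylOK && runW ((relWord r).drop rot ++ (relWord r).take rot) steps

end Cfsg.Agent.HeUniq.Rel
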