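import Cfsg.Agent.Lib.HeUniq.Rel.Defs

/-! Derivations of relators in the amalgam (part 0). -/

set_option autoImplicit false
set_option maxRecDepth 100000

namespace Cfsg.Agent.HeUniq.Rel

/-- steps for `abababab` -/
def steps0_0 : List (List ℕ) := [
  [0, 2, 0, 33276],
  [0, 2, 0, 33384],
  [0, 2, 0, 29361],
  [0, 2, 0, 29244],
  [0, 2, 0, 33165],
  [0, 2, 0, 33225],
  [0, 2, 0, 29184]]

/-- the derivation of `abababab` -/
def steps0 : List (List ℕ) := steps0_0

theorem cert0 : certOK [0, 1, 0, 1, 0, 1, 0, 1] 0 steps0 = true := by decide +kernel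

/-- steps for `acac` -/
def steps1_0 : List (List ℕ) := [
  [0, 2, 0, 8568],
  [0, 2, 0, 8661],
  [0, 2, 0, 29184]]

/-- the derivation of `acac` -/
def steps1 : List (List ℕ) := steps1_0

theorem cert1 : certOK [0, 2, 0, 2] 0 steps1 = true := by decide +kernel

/-- steps for `aeae` -/
def steps3_0 : List (List ℕ) := [
  [0, 2, 0, 29325],
  [0, 2, 0, 29376],
  [0, 2, 0, 29184]]

/-- the derivation of `aeae` -/
def steps3 : List (List ℕ) := steps3_0

theorem cert3 : certOK [0, 4, 0, 4] 0 steps3 = true := by decide +kernel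

/-- steps for `afaf` -/
def steps4_0 : List (List ℕ) := [
  [0, 2, 0, 29502],
  [0, 2, 0, 29199],
  [0, 2, 0, 29184]]

/-- the derivation of `afaf` -/
def steps4 : List (List ℕ) := steps4_0

theorem cert4 : certOK [0, 5, 0, 5] 0 steps4 = true := by decide +kernel

/-- steps for `agag` -/
def steps5_0 : List (List ℕ) := [
  [0, 2, 0, 29541],
  [0, 2, 0, 29256],
  [0, 2, 0, 29184]]

/-- the derivation of `agag` -/
def steps5 : List (List ℕ) := steps5_0

theorem cert5 : certOK [0, 6, 0, 6] 0 steps5 = true := by decide +kernel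

/-- steps for `bcbcbc` -/
def steps6_0 : List (List ℕ) := [
  [0, 2, 0, 5397],
  [0, 2, 0, 47808],
  [0, 2, 0, 54537],
  [0, 2, 0, 8661],
  [0, 2, 0, 29184]]

/-- the derivation of `bcbcbc` -/
def steps6 : List (List ℕ) := steps6_0

theorem cert6 : certOK [1, 2, 1, 2, 1, 2] 0 steps6 = true := by decide +kernel

/-- steps for `bdbd` -/
def steps7_0 : List (List ℕ) := [
  [0, 2, 0, 40902],
  [6, 2, 0, 35106],
  [6, 2, 0, 41775],
  [7, 1, 0, 118, 206320],
  [8, 1, 0, 204592, 3073],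
  [9, 1, 64, 15360],
  [7, 1, 2089, 30948],
  [8, 1, 0, 84481, 93724],
  [9, 1, 0, 220, 84481],
  [8, 1, 0, 84482],
  [9, 1, 516, 29280],
  [9, 1, 528, 4613],
  [10, 1, 0, 84482],
  [8, 2, 0, 90674],
  [8, 2, 0, 27314],
  [9, 2, 0, 5790],
  [6, 2, 0, 42177],
  [7, 1, 0, 3332, 24434],
  [8, 1, 0, 27314, 3074],
  [9, 1, 64, 28032],
  [7, 1, 2029, 46725],
  [8, 1, 0, 84482, 311813],
  [9, 1, 0, 4613, 84482],
  [8, 1, 0, 84481],
  [9, 1, 528, 29280],
  [9, 1, 516, 220],
  [10, 1, 0, 84481],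
  [8, 2, 0, 84976],
  [8, 2, 0, 204592],
  [9, 2, 0, 7707],
  [6, 2, 0, 43563],
  [5, 1, 0, 1279, 205621],
  [6, 1, 0, 204592, 3868],
  [7, 1, 66, 15408],
  [5, 1, 579, 33864],
  [6, 1, 0, 84481, 93724],
  [7, 1, 0, 220, 84481],
  [6, 1, 0, 84482],
  [7, 1, 516, 29280],
  [7, 1, 528, 4613],
  [8, 1, 0, 84482],
  [6, 2, 0, 90674],
  [6, 2, 0, 27314],
  [7, 2, 0, 49563],
  [4, 2, 0, 31899],
  [5, 1, 0, 3332, 24434],
  [6, 1, 0, 27314, 3074],
  [7, 1, 64, 28032],
  [5, 1, 2029, 46725],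
  [6, 1, 0, 84482, 311813],
  [7, 1, 0, 4613, 84482],
  [6, 1, 0, 84481],
  [7, 1, 528, 29280],
  [7, 1, 516, 220],
  [8, 1, 0, 84481],
  [6, 2, 0, 84976],
  [6, 2, 0, 204592],
  [7, 2, 0, 47649],
  [4, 2, 0, 48807],
  [6, 1, 1169, 8098],
  [5, 2, 0, 210379],
  [5, 2, 0, 4618],
  [5, 1, 537, 29403],
  [4, 2, 0, 48780],
  [4, 2, 0, 54567],
  [5, 1, 0, 1280, 205622],
  [6, 1, 0, 204593, 3869],
  [7, 1, 66, 28035],
  [5, 1, 579, 29589],
  [6, 1, 0, 84482, 93725],
  [7, 1, 0, 221, 84482],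
  [6, 1, 0, 84481],
  [7, 1, 516, 29187],
  [7, 1, 528, 4612],
  [8, 1, 0, 84481],
  [6, 2, 0, 90673],
  [6, 2, 0, 27313],
  [7, 2, 0, 30102],
  [4, 2, 0, 53274],
  [3, 1, 0, 1280, 205622],
  [4, 1, 0, 204593, 3869],
  [5, 1, 66, 28035],
  [3, 1, 579, 29589],
  [4, 1, 0, 84482, 93725],
  [5, 1, 0, 221, 84482],
  [4, 1, 0, 84481],
  [5, 1, 516, 29187],
  [5, 1, 528, 4612],
  [6, 1, 0, 84481],
  [4, 2, 0, 90673],
  [4, 2, 0, 27313],
  [5, 2, 0, 50964],
  [2, 2, 0, 31761],
  [4, 1, 2635, 2719],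
  [3, 2, 0, 25672],
  [3, 2, 0, 4162],
  [3, 1, 199, 15534],
  [2, 2, 0, 17283],
  [2, 2, 0, 12066],
  [3, 1, 0, 1279, 205621],
  [4, 1, 0, 204592, 3868],
  [5, 1, 66, 15408],
  [3, 1, 579, 33864],
  [4, 1, 0, 84481, 93724],
  [5, 1, 0, 220, 84481],
  [4, 1, 0, 84482],
  [5, 1, 516, 29280],
  [5, 1, 528, 4613],
  [6, 1, 0, 84482],
  [4, 2, 0, 90674],
  [4, 2, 0, 27314],
  [5, 2, 0, 5766],
  [2, 2, 0, 54186],
  [3, 1, 0, 593, 25211],
  [4, 1, 0, 27314, 1541],
  [5, 1, 0, 27648],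
  [3, 1, 748, 48243],
  [4, 1, 0, 84482, 311813],
  [5, 1, 0, 4613, 84482],
  [4, 1, 0, 84481]]

/-- steps for `bdbd` -/
def steps7_1 : List (List ℕ) := [
  [5, 1, 528, 29280],
  [5, 1, 516, 220],
  [6, 1, 0, 84481],
  [4, 2, 0, 84976],
  [4, 2, 0, 204592],
  [5, 2, 0, 8835],
  [2, 2, 0, 35367],
  [2, 1, 2161, 5134],
  [1, 2, 0, 210352],
  [1, 2, 0, 4633],
  [1, 1, 664, 29385],
  [0, 2, 0, 40722],
  [0, 2, 0, 29184]]

/-- the derivation of `bdbd` -/
def steps7 : List (List ℕ) := steps7_0 ++ steps7_1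

theorem cert7 : certOK [1, 3, 1, 3] 0 steps7 = true := by decide +kernel

/-- steps for `bebe` -/
def steps8_0 : List (List ℕ) := [
  [0, 2, 0, 33033],
  [0, 2, 0, 29376],
  [0, 2, 0, 29184]]

/-- the derivation of `bebe` -/
def steps8 : List (List ℕ) := steps8_0

theorem cert8 : certOK [1, 4, 1, 4] 0 steps8 = true := by decide +kernel

/-- steps for `bfbf` -/
def steps9_0 : List (List ℕ) := [
  [0, 2, 0, 33234],
  [0, 2, 0, 29199],
  [0, 2, 0, 29184]]

/-- the derivation of `bfbf` -/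
def steps9 : List (List ℕ) := steps9_0

theorem cert9 : certOK [1, 5, 1, 5] 0 steps9 = true := by decide +kernel

/-- steps for `bgbg` -/
def steps10_0 : List (List ℕ) := [
  [0, 2, 0, 33297],
  [0, 2, 0, 29256],
  [0, 2, 0, 29184]]

/-- the derivation of `bgbg` -/
def steps10 : List (List ℕ) := steps10_0

theorem cert10 : certOK [1, 6, 1, 6] 0 steps10 = true := by decide +kernel

/-- steps for `cece` -/
def steps12_0 : List (List ℕ) := [
  [0, 2, 0, 8469],
  [0, 2, 0, 29376],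
  [0, 2, 0, 29184]]

/-- the derivation of `cece` -/
def steps12 : List (List ℕ) := steps12_0

theorem cert12 : certOK [2, 4, 2, 4] 0 steps12 = true := by decide +kernel

/-- steps for `cfcf` -/
def steps13_0 : List (List ℕ) := [
  [0, 2, 0, 8646],
  [0, 2, 0, 29199],
  [0, 2, 0, 29184]]

/-- the derivation of `cfcf` -/
def steps13 : List (List ℕ) := steps13_0

theorem cert13 : certOK [2, 5, 2, 5] 0 steps13 = true := by decide +kernel

/-- steps for `cgcg` -/
def steps14_0 : List (List ℕ) := [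
  [0, 2, 0, 8733],
  [0, 2, 0, 29256],
  [0, 2, 0, 29184]]

/-- the derivation of `cgcg` -/
def steps14 : List (List ℕ) := steps14_0

theorem cert14 : certOK [2, 6, 2, 6] 0 steps14 = true := by decide +kernel

/-- steps for `efef` -/
def steps18_0 : List (List ℕ) := [
  [0, 2, 0, 29391],
  [0, 2, 0, 29199],
  [0, 2, 0, 29184]]

/-- the derivation of `efef` -/
def steps18 : List (List ℕ) := steps18_0

theorem cert18 : certOK [4, 5, 4, 5] 0 steps18 = true := by decide +kernel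

/-- steps for `egeg` -/
def steps19_0 : List (List ℕ) := [
  [0, 2, 0, 29448],
  [0, 2, 0, 29256],
  [0, 2, 0, 29184]]

/-- the derivation of `egeg` -/
def steps19 : List (List ℕ) := steps19_0

theorem cert19 : certOK [4, 6, 4, 6] 0 steps19 = true := by decide +kernel

/-- steps for `fgfgfgfg` -/
def steps20_0 : List (List ℕ) := [
  [0, 2, 0, 29271],
  [0, 2, 0, 29448],
  [0, 2, 0, 29376],
  [0, 2, 0, 29391],
  [0, 2, 0, 29463],
  [0, 2, 0, 29256],
  [0, 2, 0, 29184]]

/-- the derivation of `fgfgfgfg` -/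
def steps20 : List (List ℕ) := steps20_0

theorem cert20 : certOK [5, 6, 5, 6, 5, 6, 5, 6] 0 steps20 = true := by decide +kernel

/-- steps for `egfgf` -/
def steps21_0 : List (List ℕ) := [
  [0, 2, 0, 29448],
  [0, 2, 0, 29271],
  [0, 2, 0, 29199],
  [0, 2, 0, 29184]]

/-- the derivation of `egfgf` -/
def steps21 : List (List ℕ) := steps21_0

theorem cert21 : certOK [4, 6, 5, 6, 5] 0 steps21 = true := by decide +kernel

/-- steps for `ecbacbacba` -/
def steps22_0 : List (List ℕ) := [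
  [0, 2, 0, 8469],
  [0, 2, 0, 54729],
  [0, 2, 0, 54648],
  [0, 2, 0, 47937],
  [0, 2, 0, 5628],
  [0, 2, 0, 5736],
  [0, 2, 0, 33276],
  [0, 2, 0, 29517],
  [0, 2, 0, 29184]]

/-- the derivation of `ecbacbacba` -/
def steps22 : List (List ℕ) := steps22_0

theorem cert22 : certOK [4, 2, 1, 0, 2, 1, 0, 2, 1, 0] 0 steps22 = true := by decide +kernel

/-- steps for `aa` -/
def steps25_0 : List (List ℕ) := [
  [0, 2, 0, 29184]]

/-- the derivation of `aa` -/
def steps25 : List (List ℕ) := steps25_0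

theorem cert25 : certOK [0, 0] 0 steps25 = true := by decide +kernel

/-- steps for `bb` -/
def steps26_0 : List (List ℕ) := [
  [0, 2, 0, 29184]]

/-- the derivation of `bb` -/
def steps26 : List (List ℕ) := steps26_0

theorem cert26 : certOK [1, 1] 0 steps26 = true := by decide +kernel

/-- steps for `cc` -/
def steps27_0 : List (List ℕ) := [
  [0, 2, 0, 29184]]

/-- the derivation of `cc` -/
def steps27 : List (List ℕ) := steps27_0

theorem cert27 : certOK [2, 2] 0 steps27 = true := by decide +kernel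

/-- steps for `ee` -/
def steps29_0 : List (List ℕ) := [
  [0, 2, 0, 29184]]

/-- the derivation of `ee` -/
def steps29 : List (List ℕ) := steps29_0

theorem cert29 : certOK [4, 4] 0 steps29 = true := by decide +kernel

/-- steps for `ff` -/
def steps30_0 : List (List ℕ) := [
  [0, 2, 0, 29184]]

/-- the derivation of `ff` -/
def steps30 : List (List ℕ) := steps30_0

theorem cert30 : certOK [5, 5] 0 steps30 = true := by decide +kernel

/-- steps for `gg` -/
def steps31_0 : List (List ℕ) := [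
  [0, 2, 0, 29184]]

/-- the derivation of `gg` -/
def steps31 : List (List ℕ) := steps31_0

theorem cert31 : certOK [6, 6] 0 steps31 = true := by decide +kernel

end Cfsg.Agent.HeUniq.Rel
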